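import Mathlib
import Groth.Agent.TorDimLib.Res
import Groth.Agent.FlatCxLib.Cls

/-!
# A morphism inducing isomorphisms on all Tor with residue fields is an isomorphism
-/

universe u

open CategoryTheory Limits MonoidalCategory TensorProduct

namespace Groth.Agent.TorDimLib

variable {A : Type u} [CommRing A] {M M' : ModuleCat.{u} A} (f : M ⟶ M')
  (P : ProjectiveResolution M) (Q : ProjectiveResolution M') (φ : P.complex ⟶ Q.complex)

/-- Terms of the cone, shifted by one. -/
noncomputable def coneX : ℕ → ModuleCat.{u} A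
  | 0 => ModuleCat.of A PUnit.{u + 1}
  | 1 => Q.complex.X 0
  | (j + 2) => ModuleCat.of A (P.complex.X j × Q.complex.X (j + 1))

instance flat_coneX (i : ℕ) : Module.Flat A (coneX P Q i) :=
  match i with
  | 0 => inferInstanceAs (Module.Flat A PUnit.{u + 1})
  | 1 => inferInstanceAs (Module.Flat A (Q.complex.X 0))
  | (j + 2) => inferInstanceAs (Module.Flat A (P.complex.X j × Q.complex.X (j + 1)))

/-- The first differential of the cone. -/
noncomputable def cd1 : P.complex.X 0 × Q.complex.X 1 →ₗ[A] Q.complex.X 0 :=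
  (φ.f 0).hom ∘ₗ LinearMap.fst A _ _ + dP Q 0 ∘ₗ LinearMap.snd A _ _

/-- The higher differentials of the cone. -/
noncomputable def cd2 (j : ℕ) :
    P.complex.X (j + 1) × Q.complex.X (j + 2) →ₗ[A] P.complex.X j × Q.complex.X (j + 1) :=
  LinearMap.prod (-(dP P j ∘ₗ LinearMap.fst A _ _))
    ((φ.f (j + 1)).hom ∘ₗ LinearMap.fst A _ _ + dP Q (j + 1) ∘ₗ LinearMap.snd A _ _)

/-- Differentials of the cone. -/
noncomputable def coneD : ∀ i, coneX P Q (i + 1) →ₗ[A] coneX P Q i
  | 0 => 0
  | 1 => cd1 P Q φ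
  | (j + 2) => cd2 P Q φ j

theorem comm_apply (j : ℕ) (x : P.complex.X (j + 1)) :
    (φ.f j).hom (dP P j x) = dP Q j ((φ.f (j + 1)).hom x) :=
  (LinearMap.congr_fun (ModuleCat.hom_ext_iff.1 (φ.comm (j + 1) j)) x).symm

theorem coneD_coneD (i : ℕ) (x : coneX P Q (i + 1 + 1)) :
    coneD P Q φ i (coneD P Q φ (i + 1) x) = 0 := by
  match i with
  | 0 => rfl
  | 1 =>
    obtain ⟨p, q⟩ := x
    show (φ.f 0).hom (-(dP P 0 p)) + dP Q 0 ((φ.f 1).hom p + dP Q 1 q) = 0
    rw [map_neg, map_add, comm_apply, dP_dP, add_zero, neg_add_cancel]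
  | (j + 2) =>
    obtain ⟨p, q⟩ := x
    show ((-(dP P j (-(dP P (j + 1) p)))),
      (φ.f (j + 1)).hom (-(dP P (j + 1) p)) +
        dP Q (j + 1) ((φ.f (j + 2)).hom p + dP Q (j + 2) q)) = (0 : P.complex.X j × Q.complex.X (j + 1))
    rw [map_neg, map_neg, map_add, dP_dP, dP_dP, comm_apply, add_zero, neg_add_cancel]
    simp

variable (N : Type u) [AddCommGroup N] [Module A N]

theorem lTensor_split {Y Z : Type u} [AddCommGroup Y] [Module A Y] [AddCommGroup Z] [Module A Z]
    (z : N ⊗[A] (Y × Z)) :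
    (LinearMap.inl A Y Z).lTensor N ((LinearMap.fst A Y Z).lTensor N z) +
      (LinearMap.inr A Y Z).lTensor N ((LinearMap.snd A Y Z).lTensor N z) = z := by
  induction z with
  | zero => simp
  | tmul a b =>
    simp only [LinearMap.lTensor_tmul, ← TensorProduct.tmul_add]
    congr 1
    simp
  | add a b ha hb =>
    simp only [map_add]
    rw [add_add_add_comm, ha, hb]

/-- Exactness of the tensored cone from bijectivity on homology. -/
theorem exactAbove_cone
    (hinj : ∀ (j : ℕ) (x : N ⊗[A] P.complex.X j),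
      (∀ j', j = j' + 1 → ((P.complex.d j j').hom.lTensor N x) = 0) →
      (φ.f j).hom.lTensor N x ∈ LinearMap.range ((dP Q j).lTensor N) →
      x ∈ LinearMap.range ((dP P j).lTensor N))
    (hsurj : ∀ (j : ℕ) (y : N ⊗[A] Q.complex.X j),
      (∀ j', j = j' + 1 → ((Q.complex.d j j').hom.lTensor N y) = 0) →
      ∃ x : N ⊗[A] P.complex.X j, (∀ j', j = j' + 1 → ((P.complex.d j j').hom.lTensor N x) = 0) ∧
        (φ.f j).hom.lTensor N x - y ∈ LinearMap.range ((dP Q j).lTensor N)) :
    ExactAbove (X := fun i => coneX P Q i) (fun i => coneD P Q φ i) 0 N := by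
  have hcomm : ∀ (j : ℕ) (x : N ⊗[A] P.complex.X (j + 1)),
      (φ.f j).hom.lTensor N ((dP P j).lTensor N x) = (dP Q j).lTensor N ((φ.f (j + 1)).hom.lTensor N x) := by
    intro j x
    rw [← LinearMap.comp_apply, ← LinearMap.lTensor_comp, ← LinearMap.comp_apply, ← LinearMap.lTensor_comp]
    congr 2
    exact LinearMap.ext fun y => comm_apply P Q φ j y
  have step : ∀ (j : ℕ) (z : N ⊗[A] (P.complex.X j × Q.complex.X (j + 1))),
      (∀ j', j = j' + 1 → ((P.complex.d j j').hom.lTensor N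
        ((LinearMap.fst A (P.complex.X j) (Q.complex.X (j + 1))).lTensor N z)) = 0) →
      (φ.f j).hom.lTensor N ((LinearMap.fst A (P.complex.X j) (Q.complex.X (j + 1))).lTensor N z) +
        (dP Q j).lTensor N ((LinearMap.snd A (P.complex.X j) (Q.complex.X (j + 1))).lTensor N z) = 0 →
      ∃ w, (cd2 P Q φ j).lTensor N w = z := by
    intro j z hp hpq
    have hz := lTensor_split N z
    set p := (LinearMap.fst A (P.complex.X j) (Q.complex.X (j + 1))).lTensor N z with hpd
    set q := (LinearMap.snd A (P.complex.X j) (Q.complex.X (j + 1))).lTensor N z with hqd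
    clear_value p q
    obtain ⟨p₀, hp₀⟩ := hinj j p hp ⟨-q, by rw [map_neg]; exact (eq_neg_of_add_eq_zero_left hpq).symm⟩
    obtain ⟨x, hx, v, hv⟩ := hsurj (j + 1) (q + (φ.f (j + 1)).hom.lTensor N p₀) (fun j' h => by
      obtain rfl : j = j' := by omega
      show (dP Q j).lTensor N _ = 0
      rw [map_add, ← hcomm, hp₀, add_comm]
      exact hpq)
    refine ⟨(LinearMap.inl A _ _).lTensor N (-p₀ + x) + (LinearMap.inr A _ _).lTensor N (-v), ?_⟩
    have e1 : cd2 P Q φ j ∘ₗ LinearMap.inl A _ _ = LinearMap.inl A _ _ ∘ₗ (-(dP P j)) +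
        LinearMap.inr A _ _ ∘ₗ (φ.f (j + 1)).hom := LinearMap.ext fun y => by simp [cd2]
    have e2 : cd2 P Q φ j ∘ₗ LinearMap.inr A _ _ = LinearMap.inr A _ _ ∘ₗ dP Q (j + 1) :=
      LinearMap.ext fun y => by simp [cd2]
    rw [map_add, ← LinearMap.comp_apply, ← LinearMap.lTensor_comp, e1, ← LinearMap.comp_apply,
      ← LinearMap.lTensor_comp, e2, LinearMap.lTensor_add, LinearMap.add_apply, LinearMap.lTensor_comp,
      LinearMap.lTensor_comp, LinearMap.lTensor_comp, LinearMap.comp_apply, LinearMap.comp_apply,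
      LinearMap.comp_apply, add_assoc, ← map_add]
    conv_rhs => rw [← hz]
    have : (dP P j).lTensor N x = 0 := hx j rfl
    congr 2
    · rw [LinearMap.lTensor_neg, LinearMap.neg_apply, map_add, this, map_neg, hp₀, add_zero, neg_neg]
    · rw [map_add, map_neg, map_neg, hv]
      abel
  intro i _ z
  refine ⟨fun hz => ?_, fun ⟨w, hw⟩ => hw ▸ lTensor_d_d (X := fun i => coneX P Q i)
    (fun i => coneD P Q φ i) (fun i x => coneD_coneD P Q φ i x) N i w⟩
  match i with
  | 0 =>
    obtain ⟨x, -, v, hv⟩ := hsurj 0 z (fun j' h => absurd h (by omega))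
    refine ⟨((LinearMap.inl A _ _).lTensor N x - (LinearMap.inr A _ _).lTensor N v :
      N ⊗[A] (P.complex.X 0 × Q.complex.X 1)), ?_⟩
    show (cd1 P Q φ).lTensor N ((LinearMap.inl A _ _).lTensor N x - (LinearMap.inr A _ _).lTensor N v) = z
    have e1 : cd1 P Q φ ∘ₗ LinearMap.inl A _ _ = (φ.f 0).hom := LinearMap.ext fun y => by simp [cd1]
    have e2 : cd1 P Q φ ∘ₗ LinearMap.inr A _ _ = dP Q 0 := LinearMap.ext fun y => by simp [cd1]
    rw [map_sub, ← LinearMap.comp_apply, ← LinearMap.lTensor_comp, ← LinearMap.comp_apply,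
      ← LinearMap.lTensor_comp, e1, e2, hv, sub_sub_cancel]
  | 1 =>
    obtain ⟨w, hw⟩ := step 0 z (fun j' h => absurd h (by omega)) (by
      have h : (cd1 P Q φ).lTensor N (z : N ⊗[A] (P.complex.X 0 × Q.complex.X 1)) = 0 := hz
      rw [cd1, LinearMap.lTensor_add, LinearMap.lTensor_comp, LinearMap.lTensor_comp] at h
      exact h)
    exact ⟨w, hw⟩
  | (j + 2) =>
    have h : (cd2 P Q φ j).lTensor N (z : N ⊗[A] (P.complex.X (j + 1) × Q.complex.X (j + 2))) = 0 := hz
    have h1 := congrArg ((LinearMap.fst A (P.complex.X j) (Q.complex.X (j + 1))).lTensor N) h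
    have h2 := congrArg ((LinearMap.snd A (P.complex.X j) (Q.complex.X (j + 1))).lTensor N) h
    rw [map_zero, ← LinearMap.comp_apply, ← LinearMap.lTensor_comp, cd2, LinearMap.fst_prod,
      LinearMap.lTensor_neg, LinearMap.neg_apply, neg_eq_zero, LinearMap.lTensor_comp] at h1
    rw [map_zero, ← LinearMap.comp_apply, ← LinearMap.lTensor_comp, cd2, LinearMap.snd_prod,
      LinearMap.lTensor_add, LinearMap.lTensor_comp, LinearMap.lTensor_comp] at h2
    obtain ⟨w, hw⟩ := step (j + 1) z (fun j' hj => by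
      obtain rfl : j = j' := by omega
      exact h1) h2
    exact ⟨w, hw⟩

/-- Exactness of the tensored cone when all Tor maps are isomorphisms. -/
theorem exactAbove_cone_of_isIso_tor (hφ : φ.f 0 ≫ Q.π.f 0 = P.π.f 0 ≫ f) (N : ModuleCat.{u} A)
    (h : ∀ i : ℕ, IsIso (((Tor (ModuleCat.{u} A) i).obj N).map f)) :
    ExactAbove (X := fun i => coneX P Q i) (fun i => coneD P Q φ i) 0 N := by
  let G : ModuleCat.{u} A ⥤ ModuleCat.{u} A := (tensoringLeft (ModuleCat.{u} A)).obj N
  let ψ : (G.mapHomologicalComplex _).obj P.complex ⟶ (G.mapHomologicalComplex _).obj Q.complex :=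
    (G.mapHomologicalComplex _).map φ
  have hb : ∀ j, Function.Bijective (HomologicalComplex.homologyMap ψ j).hom := by
    intro j
    haveI : IsIso ((G.leftDerived j).map f) := h j
    have e := ProjectiveResolution.isoLeftDerivedObj_hom_naturality f P Q φ hφ G j
    have e' : (G.leftDerived j).map f ≫ (Q.isoLeftDerivedObj G j).hom =
        (P.isoLeftDerivedObj G j).hom ≫ HomologicalComplex.homologyMap ψ j := e
    haveI : IsIso (HomologicalComplex.homologyMap ψ j) :=
      @IsIso.of_isIso_comp_left _ _ _ _ _ (P.isoLeftDerivedObj G j).hom _ inferInstance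
        (e' ▸ (inferInstance : IsIso ((G.leftDerived j).map f ≫ (Q.isoLeftDerivedObj G j).hom)))
    exact ConcreteCategory.bijective_of_isIso (HomologicalComplex.homologyMap ψ j)
  refine exactAbove_cone P Q φ N ?_ ?_
  · intro j x hx
    refine (FlatCxLib.homologyMap_injective_iff (i := j + 1) (j := j)
      (k := (ComplexShape.down ℕ).next j) ψ (by simp) rfl).1 (hb j).1 x ?_
    cases j with
    | zero =>
      show ((P.complex.d 0 _).hom.lTensor N) x = 0
      rw [P.complex.shape 0 _ (by simp), ModuleCat.hom_zero, LinearMap.lTensor_zero, LinearMap.zero_apply]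
    | succ j =>
      show ((P.complex.d (j + 1) _).hom.lTensor N) x = 0
      rw [(by simp : (ComplexShape.down ℕ).next (j + 1) = j)]
      exact hx j rfl
  · intro j y hy
    obtain ⟨x, hx, hr⟩ := (FlatCxLib.homologyMap_surjective_iff (i := j + 1) (j := j)
      (k := (ComplexShape.down ℕ).next j) ψ (by simp) rfl).1 (hb j).2 y (by
        cases j with
        | zero =>
          show ((Q.complex.d 0 _).hom.lTensor N) y = 0
          rw [Q.complex.shape 0 _ (by simp), ModuleCat.hom_zero, LinearMap.lTensor_zero,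
            LinearMap.zero_apply]
        | succ j =>
          show ((Q.complex.d (j + 1) _).hom.lTensor N) y = 0
          rw [(by simp : (ComplexShape.down ℕ).next (j + 1) = j)]
          exact hy j rfl)
    refine ⟨x, fun j' h' => ?_, hr⟩
    subst h'
    have h1 : ((P.complex.d (j' + 1) _).hom.lTensor N) x = 0 := hx
    rw [(by simp : (ComplexShape.down ℕ).next (j' + 1) = j')] at h1
    exact h1

theorem tmul_eq_zero_iff {Y : Type u} [AddCommGroup Y] [Module A Y] (y : Y) :
    (1 : A) ⊗ₜ[A] y = 0 ↔ y = 0 :=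
  ⟨fun h => by simpa using congrArg (TensorProduct.lid A Y) h, fun h => by rw [h, TensorProduct.tmul_zero]⟩

theorem lid_lTensor {Y Z : Type u} [AddCommGroup Y] [Module A Y] [AddCommGroup Z] [Module A Z]
    (g : Y →ₗ[A] Z) (w : A ⊗[A] Y) :
    TensorProduct.lid A Z (g.lTensor A w) = g (TensorProduct.lid A Y w) := by
  induction w with
  | zero => simp
  | tmul a b => simp
  | add a b ha hb => simp [ha, hb]

/-- A map whose tensored cone is exact on residue fields is bijective. -/
theorem bijective_of_cone [IsNoetherianRing A] (hφ : φ.f 0 ≫ Q.π.f 0 = P.π.f 0 ≫ f)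
    (h : ∀ (x : Ideal A) [x.IsPrime] (i : ℕ),
      IsIso (((Tor (ModuleCat.{u} A) i).obj (ModuleCat.of A x.ResidueField)).map f)) :
    Function.Bijective f.hom := by
  have hE : ExactAbove (X := fun i => coneX P Q i) (fun i => coneD P Q φ i) 0 A :=
    of_residueFields (X := fun i => coneX P Q i) (fun i => coneD P Q φ i)
      (fun i x => coneD_coneD P Q φ i x)
      (fun x _ => exactAbove_cone_of_isIso_tor f P Q φ hφ (ModuleCat.of A x.ResidueField) (h x)) A
  have hπ : ∀ p, (Q.π.f 0).hom ((φ.f 0).hom p) = f.hom ((P.π.f 0).hom p) := fun p =>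
    LinearMap.congr_fun (ModuleCat.hom_ext_iff.1 hφ) p
  have hπP : Function.Surjective (P.π.f 0).hom := (ModuleCat.epi_iff_surjective _).1 inferInstance
  have hπQ : Function.Surjective (Q.π.f 0).hom := (ModuleCat.epi_iff_surjective _).1 inferInstance
  have hQ0 : ∀ q, (Q.π.f 0).hom (dP Q 0 q) = 0 := fun q =>
    LinearMap.congr_fun (ModuleCat.hom_ext_iff.1 Q.complex_d_comp_π_f_zero) q
  have hP0 : ∀ p, (P.π.f 0).hom (dP P 0 p) = 0 := fun p =>
    LinearMap.congr_fun (ModuleCat.hom_ext_iff.1 P.complex_d_comp_π_f_zero) p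
  refine ⟨?_, fun n => ?_⟩
  · rw [injective_iff_map_eq_zero]
    intro m hm
    obtain ⟨p, rfl⟩ := hπP m
    obtain ⟨q, hq⟩ := ((ShortComplex.ShortExact.moduleCat_exact_iff_function_exact _).1 Q.exact₀
      ((φ.f 0).hom p)).1 ((hπ p).trans hm)
    have hq' : dP Q 0 q = (φ.f 0).hom p := hq
    let z : P.complex.X 0 × Q.complex.X 1 := (p, -q)
    obtain ⟨w, hw⟩ := (hE 1 (by omega) ((1 : A) ⊗ₜ[A] (show coneX P Q 2 from z))).1 (by
      rw [LinearMap.lTensor_tmul, tmul_eq_zero_iff]
      show (φ.f 0).hom p + dP Q 0 (-q) = 0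
      rw [map_neg, hq', add_neg_cancel])
    have h1 := congrArg (TensorProduct.lid A (coneX P Q 2)) hw
    rw [lid_lTensor, TensorProduct.lid_tmul, one_smul] at h1
    obtain ⟨⟨p', q'⟩, hw'⟩ : ∃ v : P.complex.X 1 × Q.complex.X 2,
        v = TensorProduct.lid A (coneX P Q 3) w := ⟨_, rfl⟩
    rw [← hw'] at h1
    have h2 : -(dP P 0 p') = p := congrArg Prod.fst h1
    rw [← h2, map_neg, hP0, neg_zero]; rfl
  · obtain ⟨q, rfl⟩ := hπQ n
    obtain ⟨w, hw⟩ := (hE 0 le_rfl ((1 : A) ⊗ₜ[A] (show coneX P Q 1 from q))).1 (by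
      rw [LinearMap.lTensor_tmul]
      show (1 : A) ⊗ₜ[A] ((0 : coneX P Q 1 →ₗ[A] coneX P Q 0) _) = 0
      rw [LinearMap.zero_apply, TensorProduct.tmul_zero])
    have h1 := congrArg (TensorProduct.lid A (coneX P Q 1)) hw
    rw [lid_lTensor, TensorProduct.lid_tmul, one_smul] at h1
    obtain ⟨⟨p', q'⟩, hw'⟩ : ∃ v : P.complex.X 0 × Q.complex.X 1,
        v = TensorProduct.lid A (coneX P Q 2) w := ⟨_, rfl⟩
    rw [← hw'] at h1
    have h2 : (φ.f 0).hom p' + dP Q 0 q' = q := h1
    refine ⟨(P.π.f 0).hom p', ?_⟩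
    rw [← h2, map_add, hQ0, add_zero, hπ]

end Groth.Agent.TorDimLib
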